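import Mathlib

/-! Essentially finite type morphisms on affine charts. -/

set_option autoImplicit false
set_option backward.isDefEq.respectTransparency false
universe u

open CategoryTheory CategoryTheory.Limits AlgebraicGeometry TopologicalSpace

namespace Groth.Agent.EssFTLib

variable {X Y : Scheme.{u}}

theorem exists_affine_mem_le {U : X.Opens} {x : X} (hx : x ∈ U) : ∃ V : X.affineOpens, x ∈ V.1 ∧ V.1 ≤ U := by
  obtain ⟨V, ⟨W, hW, rfl⟩, hxV, hVU⟩ := X.isBasis_affineOpens.exists_subset_of_mem_open hx U.isOpen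
  exact ⟨⟨W, hW⟩, hxV, hVU⟩

/-- Restriction between affine opens is of finite type. -/
theorem res_essFiniteType {U V : X.Opens} (hU : IsAffineOpen U) (hV : IsAffineOpen V) (h : V ≤ U) :
    (X.presheaf.map (homOfLE h).op).hom.EssFiniteType := by
  have h1 : (Scheme.Hom.appLE (𝟙 X) U V h).hom.FiniteType := Scheme.Hom.finiteType_appLE (𝟙 X) hU hV _
  simpa [Scheme.Hom.appLE] using h1.essFiniteType

/-- The chart predicate. -/
def Good (f : X ⟶ Y) (U : Y.Opens) (V : X.Opens) : Prop :=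
  ∃ e : V ≤ f ⁻¹ᵁ U, (f.appLE U V e).hom.EssFiniteType

theorem Good.mono_source {f : X ⟶ Y} {U : Y.Opens} {V W : X.Opens} (h : Good f U V) (hV : IsAffineOpen V)
    (hW : IsAffineOpen W) (hWV : W ≤ V) : Good f U W := by
  obtain ⟨e, he⟩ := h
  refine ⟨hWV.trans e, ?_⟩
  rw [← Scheme.Hom.appLE_map f e (homOfLE hWV).op, CommRingCat.hom_comp]
  exact he.comp (res_essFiniteType hV hW hWV)

theorem Good.target {f : X ⟶ Y} {U' U D : Y.Opens} {W : X.Opens} (h : Good f U' W)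
    (hU : IsAffineOpen U) (hD : IsAffineOpen D) (hDU : D ≤ U) (hDU' : D ≤ U')
    (hWD : W ≤ f ⁻¹ᵁ D) : Good f U W := by
  obtain ⟨e, he⟩ := h
  refine ⟨hWD.trans ((Opens.map f.base).map (homOfLE hDU)).le, ?_⟩
  rw [← Scheme.Hom.map_appLE f hWD (homOfLE hDU').op, CommRingCat.hom_comp] at he
  rw [← Scheme.Hom.map_appLE f hWD (homOfLE hDU).op, CommRingCat.hom_comp]
  exact (res_essFiniteType hU hD hDU).comp (RingHom.EssFiniteType.of_comp _ he)

/-- From one cover to every affine open. -/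
theorem exists_good (f : X ⟶ Y) (S : Set Y.affineOpens)
    (hS : (⋃ U ∈ S, ((U : Y.Opens) : Set Y)) = Set.univ)
    (hT : ∀ U ∈ S, ∀ x ∈ f ⁻¹ᵁ (U : Y.Opens), ∃ V : X.affineOpens, x ∈ V.1 ∧ Good f U.1 V.1)
    (U : Y.affineOpens) (x : X) (hx : x ∈ f ⁻¹ᵁ U.1) : ∃ V : X.affineOpens, x ∈ V.1 ∧ Good f U.1 V.1 := by
  obtain ⟨U', hU', hxU'⟩ := Set.mem_iUnion₂.1 (hS.symm ▸ Set.mem_univ (f x))
  obtain ⟨V, hxV, hV⟩ := hT U' hU' x hxU'
  obtain ⟨D, hxD, hD⟩ := exists_affine_mem_le (U := U.1 ⊓ U'.1) (x := f x) ⟨hx, hxU'⟩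
  obtain ⟨W, hxW, hW⟩ := exists_affine_mem_le (U := V.1 ⊓ f ⁻¹ᵁ D.1) (x := x) ⟨hxV, hxD⟩
  exact ⟨W, hxW, (hV.mono_source V.2 W.2 (hW.trans inf_le_left)).target U.2 D.2 (hD.trans inf_le_left)
    (hD.trans inf_le_right) (hW.trans inf_le_right)⟩

/-- Pointwise charts give covering sets. -/
theorem cover_of_pointwise (f : X ⟶ Y) (U : Y.Opens)
    (h : ∀ x ∈ f ⁻¹ᵁ U, ∃ V : X.affineOpens, x ∈ V.1 ∧ Good f U V.1) :
    (⋃ V ∈ {V : X.affineOpens | Good f U V.1}, ((V : X.Opens) : Set X)) = (f ⁻¹ᵁ U : Set X) := by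
  refine Set.Subset.antisymm (Set.iUnion₂_subset fun V hV => hV.1) fun x hx => ?_
  obtain ⟨V, hxV, hV⟩ := h x hx
  exact Set.mem_iUnion₂.2 ⟨V, hV, hxV⟩

theorem pointwise_of_cover (f : X ⟶ Y) (U : Y.Opens) {T : Set X.affineOpens}
    (hT : (⋃ V ∈ T, ((V : X.Opens) : Set X)) = (f ⁻¹ᵁ U : Set X))
    (hT' : ∀ V ∈ T, Good f U V.1) (x : X) (hx : x ∈ f ⁻¹ᵁ U) :
    ∃ V : X.affineOpens, x ∈ V.1 ∧ Good f U V.1 := by
  obtain ⟨V, hV, hxV⟩ := Set.mem_iUnion₂.1 (hT.symm ▸ hx : x ∈ ⋃ V ∈ T, ((V : X.Opens) : Set X))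
  exact ⟨V, hxV, hT' V hV⟩

theorem Good.comp {Z : Scheme.{u}} {f : X ⟶ Y} {g : Y ⟶ Z} {U : Z.Opens} {V : Y.Opens} {W : X.Opens}
    (hf : Good f V W) (hg : Good g U V) : Good (f ≫ g) U W := by
  obtain ⟨e, he⟩ := hf
  obtain ⟨e', he'⟩ := hg
  refine ⟨e.trans (Scheme.Hom.preimage_mono f e'), ?_⟩
  rw [← Scheme.Hom.appLE_comp_appLE f g U V W e' e, CommRingCat.hom_comp]
  exact he'.comp he

theorem Good.baseChange {Y' : Scheme.{u}} {f : X ⟶ Y} (g : Y' ⟶ Y) {U : Y.Opens} {V : X.Opens} {U'' : Y'.Opens}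
    (hU : IsAffineOpen U) (hV : IsAffineOpen V) (hU'' : IsAffineOpen U'') (hg : U'' ≤ g ⁻¹ᵁ U) (h : Good f U V) :
    IsAffineOpen (pullback.fst f g ⁻¹ᵁ V ⊓ pullback.snd f g ⁻¹ᵁ U'') ∧
      Good (pullback.snd f g) U'' (pullback.fst f g ⁻¹ᵁ V ⊓ pullback.snd f g ⁻¹ᵁ U'') := by
  obtain ⟨e, he⟩ := h
  set W := pullback.fst f g ⁻¹ᵁ V ⊓ pullback.snd f g ⁻¹ᵁ U''
  have sq := Scheme.Hom.isPullback_resLE (IsPullback.of_hasPullback f g) hg e (UY := W) rfl
  haveI : IsAffine U.toScheme := hU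
  haveI : IsAffine V.toScheme := hV
  haveI : IsAffine U''.toScheme := hU''
  have hW : IsAffine W.toScheme := IsAffine.of_isPullback sq
  refine ⟨hW, inf_le_right, ?_⟩
  have hpo := isPushout_appTop_of_isPullback sq
  have hR : (RingHom.toMorphismProperty fun {R S} [CommRing R] [CommRing S] (φ : R →+* S) => φ.EssFiniteType).RespectsIso :=
    RingHom.toMorphismProperty_respectsIso_iff.1 RingHom.EssFiniteType.respectsIso
  have h1 : (f.resLE U V e).appTop.hom.EssFiniteType :=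
    ((RingHom.toMorphismProperty fun {R S} [CommRing R] [CommRing S] (φ : R →+* S) => φ.EssFiniteType).arrow_mk_iso_iff
      (arrowResLEAppIso f U V e)).2 he
  have h2 : ((pullback.snd f g).resLE U'' W inf_le_right).appTop.hom.EssFiniteType := by
    haveI := (RingHom.isStableUnderCobaseChange_toMorphismProperty_iff (P := fun {R S} [CommRing R] [CommRing S] (φ : R →+* S) => φ.EssFiniteType)).2 RingHom.EssFiniteType.isStableUnderBaseChange
    exact (MorphismProperty.IsStableUnderCobaseChange.of_isPushout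
      (P := RingHom.toMorphismProperty fun {R S} [CommRing R] [CommRing S] (φ : R →+* S) => φ.EssFiniteType) hpo.flip h1 :)
  exact ((RingHom.toMorphismProperty fun {R S} [CommRing R] [CommRing S] (φ : R →+* S) => φ.EssFiniteType).arrow_mk_iso_iff
      (arrowResLEAppIso (pullback.snd f g) U'' W inf_le_right)).1 h2

end Groth.Agent.EssFTLib
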